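import Groth.Agent.S3176
import Groth.Agent.PerfLib.RelFrob
import Mathlib

/-! # Frobenius-linear finite étale algebras -/

set_option autoImplicit false

namespace Groth.Agent.AchingerLift

open MvPolynomial TensorProduct

universe u

variable {R : Type u} [CommRing R] {σ : Type} [Fintype σ] [DecidableEq σ] (p : ℕ)

/-- The relations `X_j ^ p = ∑ M i j X_i`. -/
noncomputable def rel (M : Matrix σ σ R) (j : σ) : MvPolynomial σ R :=
  X j ^ p - ∑ i, C (M i j) * X i

/-- The algebra cut out by the relations. -/
abbrev Alg (M : Matrix σ σ R) : Type u :=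
  MvPolynomial σ R ⧸ Ideal.span (Set.range (rel p M))

theorem finite_alg (hp : 2 ≤ p) (M : Matrix σ σ R) : Module.Finite R (Alg p M) := by
  classical
  let π : MvPolynomial σ R →ₐ[R] Alg p M := Ideal.Quotient.mkₐ R _
  let S : Set (Alg p M) := Set.range fun e : σ → Fin p => π (∏ j, X j ^ (e j : ℕ))
  have hx : ∀ j, π (X j) ^ p = ∑ i, M i j • π (X i) := fun j => by
    have h : π (rel p M j) = 0 :=
      Ideal.Quotient.eq_zero_iff_mem.mpr (Ideal.subset_span ⟨j, rfl⟩)
    rw [rel, map_sub, map_pow, map_sum, sub_eq_zero] at h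
    rw [h]
    exact Finset.sum_congr rfl fun i _ => (map_mul π _ _).trans
      ((congrArg (· * π (X i)) (π.commutes _)).trans (Algebra.smul_def _ _).symm)
  have main : ∀ (n : ℕ) (e : σ → ℕ), ∑ j, e j = n → π (∏ j, X j ^ e j) ∈ Submodule.span R S := by
    intro n
    induction n using Nat.strong_induction_on with
    | _ n ih =>
      intro e he
      by_cases hb : ∀ j, e j < p
      · exact Submodule.subset_span ⟨fun j => ⟨e j, hb j⟩, rfl⟩
      push Not at hb
      obtain ⟨j, hj⟩ := hb
      let e₀ : σ → ℕ := Function.update e j (e j - p)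
      have hsum : ∑ k, e₀ k + p = n := by
        rw [← he, Finset.sum_update_of_mem (Finset.mem_univ j), ← Finset.sum_erase_add _ _ (Finset.mem_univ j),
          Finset.sdiff_singleton_eq_erase]
        omega
      have hfac : π (∏ k, X k ^ e k) = π (∏ k, X k ^ e₀ k) * π (X j) ^ p := by
        rw [← map_pow, ← map_mul]
        congr 1
        rw [← Finset.prod_erase_mul _ _ (Finset.mem_univ j),
          ← Finset.prod_erase_mul (f := fun k => (X k : MvPolynomial σ R) ^ e₀ k) _ (Finset.mem_univ j),
          mul_assoc, ← pow_add]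
        congr 1
        · exact Finset.prod_congr rfl fun k hk => by
            rw [show e₀ k = e k from Function.update_of_ne (Finset.ne_of_mem_erase hk) _ _]
        · rw [show e₀ j = e j - p from Function.update_self _ _ _, Nat.sub_add_cancel hj]
      rw [hfac, hx, Finset.mul_sum]
      refine Submodule.sum_mem _ fun i _ => ?_
      rw [mul_smul_comm, ← map_mul]
      refine Submodule.smul_mem _ _ ?_
      have hstep : (∏ k, (X k : MvPolynomial σ R) ^ e₀ k) * X i =
          ∏ k, X k ^ (e₀ k + if k = i then 1 else 0) := by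
        simp only [pow_add, Finset.prod_mul_distrib, pow_ite, pow_one, pow_zero,
          Finset.prod_ite_eq' Finset.univ i fun k => (X k : MvPolynomial σ R), Finset.mem_univ, if_true]
      rw [hstep]
      refine ih _ ?_ _ rfl
      rw [Finset.sum_add_distrib, Finset.sum_ite_eq' Finset.univ i fun _ => 1,
        if_pos (Finset.mem_univ i)]
      omega
  have hS : S.Finite := Set.finite_range _
  refine ⟨⟨hS.toFinset, ?_⟩⟩
  rw [Set.Finite.coe_toFinset, eq_top_iff]
  intro x _
  obtain ⟨f, rfl⟩ := Ideal.Quotient.mkₐ_surjective R (Ideal.span (Set.range (rel p M))) x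
  induction f using MvPolynomial.induction_on' with
  | monomial d a =>
    rw [monomial_eq, Finsupp.prod_fintype _ _ (fun _ => pow_zero _)]
    show π (C a * _) ∈ _
    rw [← smul_eq_C_mul, map_smul]
    exact Submodule.smul_mem _ _ (main _ _ rfl)
  | add f g hf hg => rw [map_add]; exact add_mem (hf trivial) (hg trivial)

theorem etale_alg [Fact p.Prime] [CharP R p] (M : Matrix σ σ R) (hM : IsUnit M.det) :
    Algebra.Etale R (Alg p M) := by
  classical
  let P : Algebra.PreSubmersivePresentation R (Alg p M) σ σ :=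
    Algebra.PreSubmersivePresentation.naive (v := rel p M) id Function.injective_id
  have hJ : P.jacobiMatrix = (-M).map (MvPolynomial.C (σ := σ)) := by
    refine Matrix.ext fun i j => ?_
    rw [Algebra.PreSubmersivePresentation.jacobiMatrix_naive]
    simp [rel, Pi.single_apply, CharP.cast_eq_zero]
  have hu : IsUnit P.jacobian := by
    rw [Algebra.PreSubmersivePresentation.jacobian_eq_jacobiMatrix_det, hJ]
    refine IsUnit.map _ ?_
    rw [← RingHom.mapMatrix_apply, ← RingHom.map_det]
    refine IsUnit.map _ ?_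
    rw [Matrix.det_neg]
    exact ((isUnit_one.neg.pow _)).mul hM
  haveI : Algebra.IsStandardSmoothOfRelativeDimension 0 R (Alg p M) :=
    ⟨σ, σ, inferInstance, inferInstance, ⟨P, hu⟩, by simp [Algebra.Presentation.dimension]⟩
  infer_instance

/-- For finite étale algebras in characteristic `p` the `p`th powers of module generators generate. -/
theorem exists_sum_pow {p : ℕ} [Fact p.Prime] {A B : Type u} [CommRing A] [CommRing B] [Algebra A B]
    [CharP A p] [CharP B p] [Algebra.Etale A B] {ι : Type} [Fintype ι] (b : ι → B)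
    (hb : Submodule.span A (Set.range b) = ⊤) (y : B) :
    ∃ c : ι → A, ∑ i, c i • b i ^ p = y := by
  classical
  rw [← Submodule.mem_span_range_iff_exists_fun]
  obtain ⟨z, rfl⟩ := ((Groth.Agent.S3176.result p A B).mp inferInstance).2 y
  induction z using TensorProduct.induction_on with
  | zero => simp
  | add x y hx hy => rw [map_add]; exact add_mem hx hy
  | tmul x a =>
    obtain ⟨c, rfl⟩ := (Submodule.mem_span_range_iff_exists_fun A).mp (hb ▸ Submodule.mem_top (x := x))
    rw [PerfLib.relFrob_tmul, sum_pow_char p, Finset.sum_mul]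
    refine Submodule.sum_mem _ fun i _ => ?_
    rw [smul_pow, smul_mul_assoc]
    refine Submodule.smul_mem _ _ ?_
    rw [mul_comm, ← Algebra.smul_def]
    exact Submodule.smul_mem _ _ (Submodule.subset_span ⟨i, rfl⟩)

theorem exists_cover [Fact p.Prime] [CharP R p] {A B : Type u} [CommRing A] [CommRing B] [Algebra R A]
    (hRA : Function.Surjective (algebraMap R A)) [Algebra A B] [Module.Finite A B]
    [Algebra.Etale A B] :
    ∃ (C : Type u) (_ : CommRing C) (_ : Algebra R C), Module.Finite R C ∧ Algebra.Etale R C ∧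
      ∃ ψ : A ⊗[R] C →ₐ[A] B, Function.Surjective ψ := by
  classical
  rcases subsingleton_or_nontrivial B with hB | hB
  · let f : A ⊗[R] R →ₐ[A] B :=
      (Algebra.ofId A B).comp (Algebra.TensorProduct.rid R A A).toAlgHom
    exact ⟨R, inferInstance, inferInstance, inferInstance, inferInstance, f,
      fun x => ⟨0, Subsingleton.elim _ _⟩⟩
  letI : Algebra R B := ((algebraMap A B).comp (algebraMap R A)).toAlgebra
  haveI : IsScalarTower R A B := IsScalarTower.of_algebraMap_eq fun _ => rfl
  haveI : Nontrivial A := (algebraMap A B).domain_nontrivial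
  haveI : CharP A p := (CharP.charP_iff_prime_eq_zero (Fact.out (p := p.Prime))).2
    (PerfLib.cast_eq_zero (A := R))
  haveI : CharP B p := (CharP.charP_iff_prime_eq_zero (Fact.out (p := p.Prime))).2
    (PerfLib.cast_eq_zero (A := R))
  obtain ⟨r, b, hb⟩ := Module.Finite.exists_fin (R := A) (M := B)
  choose Cc hC using fun j => (Submodule.mem_span_range_iff_exists_fun A).mp
    (hb ▸ Submodule.mem_top (x := b j ^ p))
  choose Dd hD using fun j => exists_sum_pow (p := p) b hb (b j)
  choose lift hlift using hRA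
  let C₀ : Matrix (Fin r) (Fin r) R := .of fun i j => lift (Cc j i)
  let D₀ : Matrix (Fin r) (Fin r) R := .of fun i j => lift (Dd j i)
  let M : Matrix (Fin r ⊕ Fin r) (Fin r ⊕ Fin r) R := Matrix.fromBlocks C₀ (C₀ * D₀ - 1) 1 D₀
  have hMdet : IsUnit M.det := by
    have h : M = Matrix.fromBlocks 1 C₀ 0 1 * Matrix.fromBlocks 0 (-1) 1 D₀ := by
      simp [M, Matrix.fromBlocks_multiply, sub_eq_neg_add]
    rw [h, Matrix.det_mul]
    refine IsUnit.mul ?_ (Matrix.isUnit_det_of_right_inverse (B := Matrix.fromBlocks D₀ 1 (-1) 0) ?_)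
    · simp [Matrix.det_fromBlocks_zero₂₁]
    · simp [Matrix.fromBlocks_multiply, Matrix.fromBlocks_one]
  let φ : R →+* B := algebraMap R B
  have hCv : Matrix.vecMul b (C₀.map φ) = fun j => b j ^ p := funext fun j => by
    rw [← hC j]
    show ∑ i, b i * φ (lift (Cc j i)) = ∑ i, Cc j i • b i
    refine Finset.sum_congr rfl fun i _ => ?_
    simp [φ, Algebra.smul_def, IsScalarTower.algebraMap_apply R A B, hlift, mul_comm]
  have hDv : Matrix.vecMul (fun j => b j ^ p) (D₀.map φ) = b := funext fun j => by
    refine Eq.trans ?_ (hD j)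
    show ∑ i, b i ^ p * φ (lift (Dd j i)) = ∑ i, Dd j i • b i ^ p
    refine Finset.sum_congr rfl fun i _ => ?_
    simp [φ, Algebra.smul_def, IsScalarTower.algebraMap_apply R A B, hlift, mul_comm]
  let v : Fin r ⊕ Fin r → B := Sum.elim b 0
  have hv : Matrix.vecMul v (M.map φ) = fun k => v k ^ p := by
    simp only [M, v, Matrix.fromBlocks_map, Matrix.vecMul_fromBlocks]
    have e : (C₀ * D₀ - 1).map φ = C₀.map φ * D₀.map φ - 1 := by
      rw [← RingHom.mapMatrix_apply, map_sub, map_mul, map_one]; rfl
    funext k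
    rcases k with k | k
    · simp [hCv]
    · simp [e, Matrix.vecMul_sub, ← Matrix.vecMul_vecMul, hCv, hDv,
        zero_pow (Fact.out (p := p.Prime)).ne_zero]
  let g : Alg p M →ₐ[R] B := Ideal.Quotient.liftₐ _ (aeval v) fun x hx => by
    refine Ideal.span_le (I := RingHom.ker (aeval (R := R) v).toRingHom) |>.mpr ?_ hx
    rintro _ ⟨j, rfl⟩
    have := congrFun hv j
    simp only [Matrix.vecMul, dotProduct, Matrix.map_apply] at this
    simp [rel, ← this, φ, mul_comm]
  refine ⟨Alg p M, inferInstance, inferInstance, finite_alg p (Fact.out (p := p.Prime)).two_le M,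
    etale_alg p M hMdet,
    Algebra.TensorProduct.lift (Algebra.ofId A B) g (fun _ _ => Commute.all _ _), ?_⟩
  intro y
  obtain ⟨c, rfl⟩ := (Submodule.mem_span_range_iff_exists_fun A).mp (hb ▸ Submodule.mem_top (x := y))
  refine ⟨∑ i, c i ⊗ₜ[R] Ideal.Quotient.mk _ (X (Sum.inl i)), ?_⟩
  simp [g, v, Algebra.smul_def]

end Groth.Agent.AchingerLift
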